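import Cfsg.Agent.H802.FusGroup
import Cfsg.Agent.H802.FusSub
import Cfsg.Agent.H759.FusNormal
set_option linter.all false
/-!
# Criteria for normality of a subgroup in a saturated fusion system

* `isNormal_of_char_closed`: if every characteristic subgroup of `Q` is strongly closed then `Q` is normal;
* `isNormal_of_extends_aut`: if every map of `F` with source inside `Q` is the restriction of an element of
  `Aut_F(Q)` then `Q` is normal in `F`; and the converse `exists_aut_extension`.
-/
set_option autoImplicit false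

namespace Cfsg.Agent.H792
open Cfsg Cfsg.FusionSystem

variable {Ω : Type*} [Group Ω] {S : Subgroup Ω} {p : ℕ}

/-- If all characteristic subgroups of `Q` are strongly closed in the saturated system `F`, then `Q` is normal
in `F`. -/
theorem isNormal_of_char_closed [Fact p.Prime] [Finite S] (hS : IsPGroup p S) {F : FusionSystem S}
    (hF : F.IsSaturated p) {Q : Subgroup Ω} (hQS : Q ≤ S)
    (h : ∀ C : Subgroup Q, C.Characteristic → F.StronglyClosed (C.map Q.subtype)) : F.IsNormal Q := by
  have hfin : Finite Q := H802.finite_of_le hQS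
  have hQp : IsPGroup p Q := hS.to_le hQS
  have hnil : Group.IsNilpotent Q := hQp.isNilpotent
  obtain ⟨n, hn⟩ := hnil.nilpotent
  refine H759.isNormal_of_chain hS hF n (fun i => (Subgroup.upperCentralSeries Q i).map Q.subtype)
    ?_ ?_ ?_ ?_
  · show (Subgroup.upperCentralSeries Q 0).map Q.subtype = ⊥
    rw [Subgroup.upperCentralSeries_zero, Subgroup.map_bot]
  · show (Subgroup.upperCentralSeries Q n).map Q.subtype = Q
    rw [hn, ← MonoidHom.range_eq_map, Subgroup.range_subtype]
  · intro i _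
    exact h _ inferInstance
  · intro i _
    rw [Subgroup.commutator_le]
    rintro g hg _ ⟨x, hx, rfl⟩
    have hx' : x ∈ Subgroup.upperCentralSeries Q (i + 1) := hx
    rw [Subgroup.mem_upperCentralSeries_succ_iff] at hx'
    have h1 := (Subgroup.upperCentralSeries Q i).inv_mem (hx' ⟨g, hg⟩)
    refine ⟨_, h1, ?_⟩
    simp [commutatorElement_def, mul_assoc]

/-- If every map of `F` whose source lies in `Q` is the restriction of an element of `Aut_F(Q)`, then `Q` is
normal in `F`. -/
theorem isNormal_of_extends_aut [Fact p.Prime] [Finite S] (hS : IsPGroup p S) {F : FusionSystem S}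
    (hF : F.IsSaturated p) {Q : Subgroup Ω} (hQS : Q ≤ S)
    (h : ∀ (P : Subgroup Ω) (hP : P ≤ Q) (φ : P →* Ω), φ ∈ F.Hom P →
      ∃ α : MulAut Q, ∀ x : P, φ x = (α ⟨x, hP x.2⟩ : Q)) : F.IsNormal Q := by
  refine isNormal_of_char_closed hS hF hQS (fun C hC => ?_)
  refine ⟨(Subgroup.map_subtype_le C).trans hQS, fun R hR φ hφ x => ?_⟩
  obtain ⟨α, hα⟩ := h R (hR.trans (Subgroup.map_subtype_le C)) φ hφ
  obtain ⟨y, hy, hyx⟩ := hR x.2
  rw [hα x]
  refine ⟨α ⟨x, _⟩, ?_, rfl⟩
  have h1 : (⟨(x : Ω), (hR.trans (Subgroup.map_subtype_le C)) x.2⟩ : Q) = y := Subtype.ext hyx.symm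
  rw [h1]
  have h2 := Subgroup.characteristic_iff_le_comap.1 hC α
  exact h2 hy

/-- A map of `F` whose source lies in a normal subgroup `Q` is the restriction of an element of
`Aut_F(Q)`. -/
theorem exists_aut_extension {F : FusionSystem S} {Q : Subgroup Ω} (hQ : F.IsNormal Q)
    {P : Subgroup Ω} (hP : P ≤ Q) {φ : P →* Ω} (hφ : φ ∈ F.Hom P) :
    ∃ α ∈ F.autGroup Q, ∀ x : P, φ x = (α ⟨x, hP x.2⟩ : Q) := by
  obtain ⟨ψ, hψ, h1, h2⟩ := hQ.2 P φ hφ
  have hle : Q ≤ P ⊔ Q := le_sup_right
  have hr : (ψ.comp (Subgroup.inclusion hle)).range = Q := by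
    refine Eq.trans ?_ h2
    ext y
    constructor
    · rintro ⟨x, rfl⟩
      exact ⟨Subgroup.inclusion hle x, x.2, rfl⟩
    · rintro ⟨x, hx, rfl⟩
      exact ⟨⟨x, hx⟩, rfl⟩
  obtain ⟨α, hα, hαe⟩ := H802.exists_aut (H802.restrict_mem hψ hle) hr
  refine ⟨α, hα, fun x => ?_⟩
  rw [hαe, ← h1 x]
  rfl

end Cfsg.Agent.H792
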