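import Mathlib
import Cfsg.Prelude.Def_TwoFusion
import Cfsg.Prelude.Def_FusionSystem
import Cfsg.Agent.H280.StrongFusion
import Cfsg.Agent.H222.SylowJoin
import Cfsg.Agent.SignalizersComponents.PCompCore
import Cfsg.Agent.SignalizersComponents.BalanceAux
import Cfsg.Agent.Lib.GenFitting
import Cfsg.Agent.Transfer.FocalHall
import Cfsg.Agent.Transfer.Residual
import Cfsg.Agent.H749.PCl
import Cfsg.Agent.H12.CompQ
import Cfsg.Agent.FastGrp
import Cfsg.Agent.Prune
set_option linter.all false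
prune_inst 0x7f00000000000000000000000000000000000000000000000000000000000000000000000000000000000000000000000000000000000000000000000000000000000000000000000000000000000000003fffffffffffffffffffffffffffbeffbdffffffff
open scoped Cfsg.Agent.FastGrp

/-!
# Minimal strongly closed subgroups for odd primes (helper792, S5302)

`comm_of_minimal` : let `p` be a prime, `O_{p'}(G) = 1`, and `A ≠ 1` a minimal strongly closed subgroup of the Sylow
`p`-subgroup `S` of `G` which is not a Sylow subgroup of a normal subgroup of `G`. Then `A` is abelian. The two facts on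
simple groups used are given as hypotheses:

* `InnerHyp p` : an automorphism of `p`-power order of a group `K` with `O_{p'}(K) = 1` which centralizes a Sylow `p`-subgroup
  of `K` is inner (S1937);
* `RowHyp p` : in a nonabelian simple group an element of the centre of `S` conjugate into a proper strongly closed subgroup `T`
  of `S` stays in the centre of `S` (a consequence of S5116).
-/

set_option autoImplicit false

universe u

namespace Cfsg.Agent.H792.MinClosed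

open Subgroup Cfsg
open scoped commutatorElement

/-- S1937 for the prime `p`. -/
def InnerHyp (p : ℕ) : Prop :=
  ∀ (K : Type u) [Group K] [Finite K], Cfsg.pPrimeCore p K = ⊥ → ∀ (P : Sylow p K) (α : MulAut K),
    (∃ j : ℕ, orderOf α = p ^ j) → (∀ x ∈ (P : Subgroup K), α x = x) → ∃ g : K, ∀ x : K, α x = g * x * g⁻¹

/-- the consequence of S5116 used below. -/
def RowHyp (p : ℕ) : Prop :=
  ∀ (L : Type u) [Group L] [Finite L] [IsSimpleGroup L], ¬ IsMulCommutative L → ∀ (S : Sylow p L) (T : Subgroup L),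
    T < (S : Subgroup L) → Cfsg.IsStronglyClosed T (S : Subgroup L) →
    ∀ z ∈ (S : Subgroup L), z ∈ centralizer ((S : Subgroup L) : Set L) → ∀ g : L, g * z * g⁻¹ ∈ T →
      g * z * g⁻¹ ∈ centralizer ((S : Subgroup L) : Set L)

variable {G : Type u} [Group G] [Finite G] {p : ℕ} [hpf : Fact p.Prime]

/-- A `p`-element of `K` normalizing a Sylow subgroup of `K` lies in it. -/
theorem mem_of_normalize_sylow {K Q : Subgroup G} (hQ : IsPGroup p Q) (hQK : ¬ p ∣ Q.relIndex K) {k : G} (hk : k ∈ K)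
    (hkp : H749.PEl p k) (hc : ∀ q ∈ Q ⊓ K, k * q * k⁻¹ ∈ Q ⊓ K) (hc' : ∀ q ∈ Q ⊓ K, k⁻¹ * q * k ∈ Q ⊓ K) : k ∈ Q := by
  have h1 : IsPGroup p ↥(zpowers k ⊔ (Q ⊓ K)) :=
    H749.isPGroup_sup_zpowers hkp (hQ.to_le inf_le_left) hc hc'
  have h2 : (Q ⊓ K).relIndex (zpowers k ⊔ (Q ⊓ K)) = 1 := by
    have h3 : (Q ⊓ K).relIndex (zpowers k ⊔ (Q ⊓ K)) ∣ Q.relIndex K := by
      have h4 : zpowers k ⊔ (Q ⊓ K) ≤ K := sup_le (zpowers_le.2 hk) inf_le_right
      have h5 := relIndex_mul_relIndex (Q ⊓ K) (zpowers k ⊔ (Q ⊓ K)) K le_sup_right h4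
      rw [inf_relIndex_right] at h5
      exact ⟨_, h5.symm⟩
    obtain ⟨n, hn⟩ := IsPGroup.iff_card.mp h1
    have h4 : (Q ⊓ K).relIndex (zpowers k ⊔ (Q ⊓ K)) ∣ p ^ n := hn ▸ relIndex_dvd_card _ _
    obtain ⟨m, -, hm⟩ := (Nat.dvd_prime_pow hpf.out).1 h4
    rcases Nat.eq_zero_or_pos m with h0 | h0
    · rw [hm, h0, pow_zero]
    · exact absurd ((dvd_pow_self p h0.ne').trans (hm ▸ h3)) hQK
  have h3 := relIndex_eq_one.1 h2
  exact (h3 ((le_sup_left : zpowers k ≤ _) (mem_zpowers k))).1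

/-- A `p`-element centralizing a Sylow subgroup lies in it. -/
theorem mem_of_commute_sylow {K Q : Subgroup G} (hQ : IsPGroup p Q) (hQK : ¬ p ∣ Q.relIndex K) {k : G} (hk : k ∈ K)
    (hkp : H749.PEl p k) (hc : ∀ q ∈ Q ⊓ K, k * q = q * k) : k ∈ Q := by
  refine mem_of_normalize_sylow hQ hQK hk hkp (fun y hy => ?_) fun y hy => ?_
  · rw [hc y hy, mul_inv_cancel_right]; exact hy
  · rw [mul_assoc, ← hc y hy, inv_mul_cancel_left]; exact hy

/-- An element centralizing a Sylow `p`-subgroup of a component normalizes the component. -/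
theorem conj_mem_of_commute (hO : pPrimeCore p G = ⊥) {K : Subgroup G} (hK : IsComponent K) {Q : Subgroup G}
    (hQK : ¬ p ∣ Q.relIndex K) {y : G} (hc : ∀ q ∈ Q ⊓ K, y * q = q * y) :
    K.map (MulAut.conj y).toMonoidHom = K := by
  by_contra hne
  have hK' := SignalizersComponents.Components.isComponent_conj y hK
  have h1 : ⁅K.map (MulAut.conj y).toMonoidHom, K⁆ = ⊥ :=
    SignalizersComponents.Components.component_commutator_eq_bot_of_ne hK' hK hne
  refine SignalizersComponents.PCompCore.not_le_centralizer_of_component hO hK Q hQK fun q hq => ?_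
  have h2 : q ∈ K.map (MulAut.conj y).toMonoidHom := ⟨q, hq.2, by
    show y * q * y⁻¹ = q
    rw [hc q hq, mul_inv_cancel_right]⟩
  exact (commutator_eq_bot_iff_le_centralizer.1 h1) h2

/-- Splitting a `p`-element which centralizes a Sylow `p`-subgroup of the component `K`. -/
theorem exists_split (hI : InnerHyp.{u} p) (hO : pPrimeCore p G = ⊥) {K : Subgroup G} (hK : IsComponent K)
    (S : Sylow p G) {y : G} (hy : y ∈ (S : Subgroup G)) (hc : ∀ q ∈ (S : Subgroup G) ⊓ K, y * q = q * y) :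
    ∃ k c : G, k ∈ (S : Subgroup G) ⊓ K ∧ c ∈ (S : Subgroup G) ∧ c ∈ centralizer (K : Set G) ∧ y = k * c ∧
      ∀ q ∈ (S : Subgroup G) ⊓ K, k * q = q * k := by
  have hQK : ¬ p ∣ (S : Subgroup G).relIndex K := H222.SylowJoin.not_dvd_relIndex_of_subnormal S.2 S.not_dvd_index hK.1
  have hyK := conj_mem_of_commute hO hK hQK hc
  have hyp : H749.PEl p y := H749.PEl.of_isPGroup S.2 hy
  -- the automorphism of `K`
  have hmem : ∀ x ∈ K, y * x * y⁻¹ ∈ K := fun x hx => by
    rw [← hyK]; exact ⟨x, hx, rfl⟩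
  have hmem' : ∀ x ∈ K, y⁻¹ * x * y ∈ K := fun x hx => by
    rw [← hyK] at hx
    obtain ⟨z, hz, e⟩ := hx
    have e' : y * z * y⁻¹ = x := e
    rw [← e']
    have e2 : y⁻¹ * (y * z * y⁻¹) * y = z := by group
    rw [e2]; exact hz
  let α : MulAut K :=
    { toFun := fun x => ⟨y * x * y⁻¹, hmem x x.2⟩
      invFun := fun x => ⟨y⁻¹ * x * y, hmem' x x.2⟩
      left_inv := fun x => Subtype.ext (by show y⁻¹ * (y * (x : G) * y⁻¹) * y = x; group)
      right_inv := fun x => Subtype.ext (by show y * (y⁻¹ * (x : G) * y) * y⁻¹ = x; group)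
      map_mul' := fun a b => Subtype.ext (by
        show y * ((a : G) * b) * y⁻¹ = (y * a * y⁻¹) * (y * b * y⁻¹)
        group) }
  have hα : ∀ x : K, ((α x : K) : G) = y * x * y⁻¹ := fun x => rfl
  have hαn : ∀ (n : ℕ) (x : K), (((α ^ n) x : K) : G) = y ^ n * x * (y ^ n)⁻¹ := by
    intro n
    induction n with
    | zero => intro x; simp
    | succ n ih =>
      intro x
      rw [pow_succ', MulAut.mul_apply, hα, ih, pow_succ']
      group
  have hord : ∃ j : ℕ, orderOf α = p ^ j := by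
    obtain ⟨n, hn⟩ := hyp
    have h1 : α ^ p ^ n = 1 := by
      ext x
      rw [hαn, hn]
      simp
    obtain ⟨j, -, hj⟩ := (Nat.dvd_prime_pow hpf.out).1 (orderOf_dvd_of_pow_eq_one h1)
    exact ⟨j, hj⟩
  -- the Sylow subgroup of `K`
  have hQp : IsPGroup p ↥((S : Subgroup G).subgroupOf K) := S.2.comap_of_injective K.subtype K.subtype_injective
  let P : Sylow p K := hQp.toSylow hQK
  have hP : (P : Subgroup K) = (S : Subgroup G).subgroupOf K := rfl
  obtain ⟨k₀, hk₀⟩ := hI K (H12.CompQ.comp_pPrimeCore_eq_bot hO hK.1) P α hord (by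
    intro x hx
    rw [hP, mem_subgroupOf] at hx
    apply Subtype.ext
    rw [hα, hc x ⟨hx, x.2⟩, mul_inv_cancel_right])
  have hkx : ∀ x ∈ K, y * x * y⁻¹ = k₀ * x * (k₀ : G)⁻¹ := fun x hx => congrArg Subtype.val (hk₀ ⟨x, hx⟩)
  -- `c₀ = k₀⁻¹ y` centralizes `K`
  obtain ⟨c₀, hc₀⟩ : ∃ c₀ : G, c₀ = (k₀ : G)⁻¹ * y := ⟨_, rfl⟩
  have hcK : c₀ ∈ centralizer (K : Set G) := by
    rw [mem_centralizer_iff]
    intro x hx
    have := hkx x hx
    rw [hc₀]
    have e : x * ((k₀ : G)⁻¹ * y) = (k₀ : G)⁻¹ * (k₀ * x * (k₀ : G)⁻¹) * y := by group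
    rw [e, ← this]
    group
  have hcomm : (k₀ : G) * c₀ = c₀ * k₀ := (mem_centralizer_iff.1 hcK) _ k₀.2
  have hyk : y = k₀ * c₀ := by rw [hc₀]; group
  -- pass to the `p`-parts
  obtain ⟨n, hn⟩ := hyp
  obtain ⟨a, m, hm, e⟩ := Nat.exists_eq_pow_mul_and_not_dvd (Nat.card_pos (α := G)).ne' p hpf.out.ne_one
  have hcop : Nat.Coprime m (p ^ n) := (Nat.Coprime.pow_right n ((hpf.out.coprime_iff_not_dvd.2 hm).symm))
  obtain ⟨r, hr1, hr2⟩ : ∃ r : ℕ, r ≡ 0 [MOD m] ∧ r ≡ 1 [MOD p ^ n] :=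
    ⟨_, (Nat.chineseRemainder hcop 0 1).2⟩
  have hpel : ∀ x : G, H749.PEl p (x ^ r) := by
    intro x
    obtain ⟨d, rfl⟩ := (Nat.modEq_zero_iff_dvd.1 hr1)
    refine ⟨a, ?_⟩
    rw [← pow_mul, show m * d * p ^ a = Nat.card G * d by rw [e]; ring, pow_mul, pow_card_eq_one', one_pow]
  have hyr : y ^ r = y := by
    have h1 : y ^ r = y ^ 1 := by
      rw [pow_eq_pow_iff_modEq]
      exact hr2.of_dvd (orderOf_dvd_of_pow_eq_one hn)
    rw [h1, pow_one]
  have hyr2 : y = (k₀ : G) ^ r * c₀ ^ r := by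
    rw [← (show Commute (k₀ : G) c₀ from hcomm).mul_pow, ← hyk, hyr]
  have hkQ : ∀ q ∈ (S : Subgroup G) ⊓ K, (k₀ : G) * q = q * k₀ := by
    intro q hq
    have h1 := hkx q hq.2
    rw [hc q hq, mul_inv_cancel_right] at h1
    calc (k₀ : G) * q = (k₀ * q * (k₀ : G)⁻¹) * k₀ := by group
      _ = q * k₀ := by rw [← h1]
  have hkQr : ∀ q ∈ (S : Subgroup G) ⊓ K, (k₀ : G) ^ r * q = q * (k₀ : G) ^ r := by
    intro q hq
    exact ((show Commute (k₀ : G) q from hkQ q hq).pow_left r)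
  have hkS : (k₀ : G) ^ r ∈ (S : Subgroup G) :=
    mem_of_commute_sylow S.2 hQK (K.pow_mem k₀.2 r) (hpel _) hkQr
  refine ⟨(k₀ : G) ^ r, c₀ ^ r, ⟨hkS, K.pow_mem k₀.2 r⟩, ?_, pow_mem hcK r, hyr2, hkQr⟩
  have h1 : c₀ ^ r = ((k₀ : G) ^ r)⁻¹ * y := by
    rw [eq_inv_mul_iff_mul_eq]
    exact hyr2.symm
  rw [h1]
  exact mul_mem (inv_mem hkS) hy

/-! ### The projection to a component -/

/-- the projection of `A` to the Sylow subgroup `S ∩ K` of `K` -/
def proj (S A K : Subgroup G) : Subgroup G where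
  carrier := {k | k ∈ S ⊓ K ∧ ∃ c ∈ centralizer (K : Set G), k * c ∈ A}
  one_mem' := ⟨one_mem _, 1, one_mem _, by simp⟩
  mul_mem' := by
    rintro a b ⟨ha, c, hc, hac⟩ ⟨hb, d, hd, hbd⟩
    refine ⟨mul_mem ha hb, c * d, mul_mem hc hd, ?_⟩
    have h1 : b * c = c * b := (mem_centralizer_iff.1 hc) b hb.2
    have h2 : a * b * (c * d) = (a * c) * (b * d) := by
      rw [mul_assoc, mul_assoc, ← mul_assoc b c d, h1, mul_assoc]
    rw [h2]
    exact mul_mem hac hbd
  inv_mem' := by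
    rintro a ⟨ha, c, hc, hac⟩
    refine ⟨inv_mem ha, c⁻¹, inv_mem hc, ?_⟩
    have h1 : a * c = c * a := (mem_centralizer_iff.1 hc) a ha.2
    rw [← mul_inv_rev, ← h1]
    exact inv_mem hac

omit [Finite G] in
theorem proj_le (S A K : Subgroup G) : proj S A K ≤ S ⊓ K := fun _ h => h.1

omit [Finite G] in
theorem proj_closed {S A K : Subgroup G} (hA : IsStronglyClosed A S) {k g : G} (hk : k ∈ proj S A K) (hg : g ∈ K)
    (h : g * k * g⁻¹ ∈ S) : g * k * g⁻¹ ∈ proj S A K := by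
  obtain ⟨hkS, c, hc, hkc⟩ := hk
  have hcS : c ∈ S := by
    have := S.mul_mem (S.inv_mem hkS.1) (hA.1 hkc)
    rwa [inv_mul_cancel_left] at this
  refine ⟨⟨h, K.mul_mem (K.mul_mem hg hkS.2) (K.inv_mem hg)⟩, c, hc, ?_⟩
  have h1 : g * c = c * g := (mem_centralizer_iff.1 hc) g hg
  have h2 : g * k * g⁻¹ * c = g * (k * c) * g⁻¹ := by
    have h3 : g⁻¹ * c = c * g⁻¹ := (mem_centralizer_iff.1 hc) _ (K.inv_mem hg)
    rw [mul_assoc, h3]
    group
  rw [h2]
  refine hA.2 _ hkc g ?_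
  rw [← h2]
  exact mul_mem h hcS

theorem center_le_proj (hO : pPrimeCore p G = ⊥) {K : Subgroup G} (hK : IsComponent K)
    (S : Sylow p G) (A : Subgroup G) : K ⊓ centralizer (K : Set G) ≤ proj (S : Subgroup G) A K := by
  intro z hz
  have h1 : z ∈ (S : Subgroup G) :=
    Lib.Cores.pCore_le_sylow S (SignalizersComponents.BalanceAux.center_component_le_pCore p hO hK hz)
  exact ⟨⟨h1, hz.1⟩, z⁻¹, inv_mem hz.2, by rw [mul_inv_cancel]; exact one_mem _⟩

/-- the focal subgroup argument -/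
theorem le_of_proj_eq {K : Subgroup G} (hK : IsComponent K) (S : Sylow p G)
    {A : Subgroup G} (hA : IsStronglyClosed A (S : Subgroup G))
    (h : (S : Subgroup G) ⊓ K ≤ proj (S : Subgroup G) A K) : (S : Subgroup G) ⊓ K ≤ A := by
  have hQK : ¬ p ∣ (S : Subgroup G).relIndex K := H222.SylowJoin.not_dvd_relIndex_of_subnormal S.2 S.not_dvd_index hK.1
  have hQp : IsPGroup p ↥((S : Subgroup G).subgroupOf K) := S.2.comap_of_injective K.subtype K.subtype_injective
  let P : Sylow p K := hQp.toSylow hQK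
  have hP : (P : Subgroup K) = (S : Subgroup G).subgroupOf K := rfl
  have hcop : Nat.Coprime (P : Subgroup K).index (⁅(P : Subgroup K), (P : Subgroup K)⁆.relIndex (P : Subgroup K)) := by
    refine Transfer.FocalHall.coprime_of_hall _ ?_
    obtain ⟨n, hn⟩ := IsPGroup.iff_card.mp P.2
    rw [hn]
    exact Nat.Coprime.pow_left n ((Nat.Prime.coprime_iff_not_dvd hpf.out).mpr hQK)
  have h1 := Transfer.FocalHall.focal_eq (P : Subgroup K) hcop
  have hperf : _root_.commutator K = ⊤ := hK.2.1.1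
  rw [hperf, top_inf_eq] at h1
  have h2 : (P : Subgroup K).focalSubgroup ≤ A.subgroupOf K := by
    rw [focalSubgroup_def, closure_le]
    rintro _ ⟨hg, x, hx, u, rfl⟩
    rw [hP, mem_subgroupOf] at hx
    rw [SetLike.mem_coe, mem_subgroupOf]
    have hg' : (⁅x, u⁆ : K) ∈ (S : Subgroup G).subgroupOf K := hg
    rw [mem_subgroupOf] at hg'
    have e1 : ((⁅x, u⁆ : K) : G) = x * (u * (x : G)⁻¹ * (u : G)⁻¹) := by
      rw [commutatorElement_def]; push_cast; group
    rw [e1] at hg' ⊢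
    -- `x⁻¹ ∈ S ∩ K`
    obtain ⟨-, c, hc, hxc⟩ := h ⟨Subgroup.inv_mem _ hx, K.inv_mem x.2⟩
    have hcS : c ∈ (S : Subgroup G) := by
      have := mul_mem hx (hA.1 hxc)
      rwa [mul_inv_cancel_left] at this
    have hux : (u : G) * (x : G)⁻¹ * (u : G)⁻¹ ∈ (S : Subgroup G) := by
      have := mul_mem (inv_mem hx) hg'
      rwa [inv_mul_cancel_left] at this
    have h3 : (u : G)⁻¹ * c = c * (u : G)⁻¹ := (mem_centralizer_iff.1 hc) _ (K.inv_mem u.2)
    have h4 : (u : G) * ((x : G)⁻¹ * c) * (u : G)⁻¹ = (u * (x : G)⁻¹ * (u : G)⁻¹) * c := by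
      rw [mul_assoc _ (u : G)⁻¹ c, h3]
      group
    have h5 : (u : G) * ((x : G)⁻¹ * c) * (u : G)⁻¹ ∈ A := by
      refine hA.2 _ hxc u ?_
      rw [h4]
      exact mul_mem hux hcS
    have h6 : (x : G) * (u * (x : G)⁻¹ * (u : G)⁻¹) =
        ((x : G)⁻¹ * c)⁻¹ * ((u : G) * ((x : G)⁻¹ * c) * (u : G)⁻¹) := by
      rw [h4]
      have hcx : (x : G) * (u * (x : G)⁻¹ * (u : G)⁻¹) * c = c * ((x : G) * (u * (x : G)⁻¹ * (u : G)⁻¹)) :=
        (mem_centralizer_iff.1 hc) _ (K.mul_mem x.2 (K.mul_mem (K.mul_mem u.2 (K.inv_mem x.2)) (K.inv_mem u.2)))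
      calc (x : G) * (u * (x : G)⁻¹ * (u : G)⁻¹) = c⁻¹ * (c * ((x : G) * (u * (x : G)⁻¹ * (u : G)⁻¹))) := by group
        _ = c⁻¹ * ((x : G) * (u * (x : G)⁻¹ * (u : G)⁻¹) * c) := by rw [hcx]
        _ = _ := by group
    rw [h6]
    exact mul_mem (inv_mem hxc) h5
  intro x hx
  have h3 : (⟨x, hx.2⟩ : K) ∈ (P : Subgroup K) := by rw [hP, mem_subgroupOf]; exact hx.1
  rw [← h1] at h3
  exact h2 h3

theorem cl_of_mem_subnormal {K : Subgroup G} (hK : K.IsSubnormal) (S : Sylow p G) {A : Subgroup G}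
    (hKA : (S : Subgroup G) ⊓ K ≤ A) {x : G} (hx : x ∈ K) (hxp : H749.PEl p x) : ClosedTwo.Elem.Cl A x := by
  have hQK : ¬ p ∣ (S : Subgroup G).relIndex K := H222.SylowJoin.not_dvd_relIndex_of_subnormal S.2 S.not_dvd_index hK
  have hQp : IsPGroup p ↥((S : Subgroup G).subgroupOf K) := S.2.comap_of_injective K.subtype K.subtype_injective
  let P : Sylow p K := hQp.toSylow hQK
  have hP : (P : Subgroup K) = (S : Subgroup G).subgroupOf K := rfl
  have hxp' : H749.PEl p (⟨x, hx⟩ : K) := H749.PEl.of_map (f := K.subtype) K.subtype_injective hxp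
  obtain ⟨k, hk⟩ := ClosedTwo.Elem.exists_conj_le P (H749.isPGroup_zpowers hxp')
  have h1 := hk _ (mem_zpowers _)
  rw [hP, mem_subgroupOf] at h1
  exact ⟨k, hKA ⟨h1, (k * ⟨x, hx⟩ * k⁻¹ : K).2⟩⟩

/-- A subnormal subgroup `≠ 1`... with `S ∩ K ≤ A` generates, with the others, a normal subgroup. -/
theorem exists_normal_join (S : Sylow p G) {A : Subgroup G} (hA : IsStronglyClosed A (S : Subgroup G)) :
    ∃ N : Subgroup G, N.Normal ∧ (S : Subgroup G) ⊓ N ≤ A ∧
      ∀ K : Subgroup G, K.IsSubnormal → (S : Subgroup G) ⊓ K ≤ A → K ≤ N := by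
  let X : Set (Subgroup G) := {K | K.IsSubnormal ∧ (S : Subgroup G) ⊓ K ≤ A}
  have hX0 : X.Nonempty := ⟨⊥, Normal.isSubnormal inferInstance, by rw [inf_bot_eq]; exact bot_le⟩
  obtain ⟨N, hN⟩ := (Set.toFinite X).exists_maximal hX0
  have hle : ∀ K : Subgroup G, K.IsSubnormal → (S : Subgroup G) ⊓ K ≤ A → K ≤ N := by
    intro K hK hKA
    have h1 : N ⊔ K ∈ X := ⟨Lib.SubnormalJoin.isSubnormal_sup hN.prop.1 hK, by
      rw [H222.SylowJoin.sylow_inf_sup S hN.prop.1 hK]
      exact sup_le hN.prop.2 hKA⟩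
    exact le_sup_right.trans (hN.le_of_ge h1 le_sup_left)
  refine ⟨N, ⟨fun n hn g => ?_⟩, hN.prop.2, hle⟩
  refine hle (N.map (MulAut.conj g).toMonoidHom) (hN.prop.1.map (MulAut.conj g).surjective) ?_ ⟨n, hn, rfl⟩
  rintro _ ⟨hxS, y, hy, rfl⟩
  have h1 : H749.PEl p y := H749.PEl.of_map (f := (MulAut.conj g).toMonoidHom) (MulAut.conj g).injective
    (H749.PEl.of_isPGroup S.2 hxS)
  have h2 := cl_of_mem_subnormal hN.prop.1 S hN.prop.2 hy h1
  exact (h2.conj g).mem hA hxS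

/-- **The row for a component.** -/
theorem proj_center (hR : RowHyp.{u} p) (hO : pPrimeCore p G = ⊥) {K : Subgroup G} (hK : IsComponent K) (S : Sylow p G)
    {A : Subgroup G} (hA : IsStronglyClosed A (S : Subgroup G)) (hKA : ¬ (S : Subgroup G) ⊓ K ≤ A) {z h : G} (hh : h ∈ K)
    (hz : z ∈ (S : Subgroup G) ⊓ K) (hzc : ∀ q ∈ (S : Subgroup G) ⊓ K, z * q = q * z)
    (hk : h * z * h⁻¹ ∈ proj (S : Subgroup G) A K) {q : G} (hq : q ∈ (S : Subgroup G) ⊓ K) :
    (h * z * h⁻¹) * q * (h * z * h⁻¹)⁻¹ * q⁻¹ ∈ K ⊓ centralizer (K : Set G) := by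
  have hQK : ¬ p ∣ (S : Subgroup G).relIndex K := H222.SylowJoin.not_dvd_relIndex_of_subnormal S.2 S.not_dvd_index hK.1
  have hQp : IsPGroup p ↥((S : Subgroup G).subgroupOf K) := S.2.comap_of_injective K.subtype K.subtype_injective
  let P : Sylow p K := hQp.toSylow hQK
  have hP : (P : Subgroup K) = (S : Subgroup G).subgroupOf K := rfl
  have hmemP : ∀ (x : G) (hx : x ∈ (S : Subgroup G) ⊓ K), (⟨x, hx.2⟩ : K) ∈ (P : Subgroup K) := fun x hx => hx.1
  let D : Subgroup K := (proj (S : Subgroup G) A K).subgroupOf K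
  have hD : IsStronglyClosed D (P : Subgroup K) := by
    refine ⟨fun x hx => (proj_le _ _ _ hx).1, fun x hx g hg => ?_⟩
    exact proj_closed hA hx g.2 hg
  have hDq := H280.StrongQuot.stronglyClosed_map_quotient P hD (center K)
  have hcen : ∀ x ∈ center K, (x : G) ∈ centralizer (K : Set G) := by
    intro x hx
    rw [mem_centralizer_iff]
    intro y hy
    exact congrArg Subtype.val ((mem_center_iff.1 hx) ⟨y, hy⟩)
  have hZD : ∀ x ∈ center K, x ∈ D := fun x hx => center_le_proj hO hK S A ⟨x.2, hcen x hx⟩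
  have hsimp : IsSimpleGroup (K ⧸ center K) := hK.2.2
  have hnc : ¬ IsMulCommutative (K ⧸ center K) := by
    intro hc
    have h1 : _root_.commutator K ≤ center K := (Normal.quotient_commutative_iff_commutator_le).1 hc
    have h2 : _root_.commutator K = ⊤ := hK.2.1.1
    rw [h2] at h1
    obtain ⟨x, hx⟩ := exists_ne (1 : K ⧸ center K)
    obtain ⟨y, rfl⟩ := QuotientGroup.mk'_surjective (center K) x
    exact hx ((QuotientGroup.eq_one_iff y).2 (h1 (mem_top y)))
  let Sb : Sylow p (K ⧸ center K) := P.mapSurjective (QuotientGroup.mk'_surjective (center K))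
  have hSb : (Sb : Subgroup (K ⧸ center K)) = (P : Subgroup K).map (QuotientGroup.mk' (center K)) := rfl
  have hlt : D.map (QuotientGroup.mk' (center K)) < (Sb : Subgroup (K ⧸ center K)) := by
    refine lt_of_le_of_ne (by rw [hSb]; exact map_mono hD.1) fun e => hKA ?_
    refine le_of_proj_eq hK S hA fun x hx => ?_
    have h1 : (QuotientGroup.mk' (center K)) ⟨x, hx.2⟩ ∈ (Sb : Subgroup (K ⧸ center K)) := by
      rw [hSb]
      exact mem_map_of_mem _ (hmemP x hx)
    rw [← e] at h1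
    obtain ⟨t, ht, htx⟩ := h1
    have h2 : t⁻¹ * ⟨x, hx.2⟩ ∈ center K := QuotientGroup.eq.mp htx
    have h3 := D.mul_mem ht (hZD _ h2)
    rw [mul_inv_cancel_left] at h3
    exact h3
  have hrow := hR (K ⧸ center K) hnc Sb (D.map (QuotientGroup.mk' (center K))) hlt (by rw [hSb]; exact hDq)
    ((QuotientGroup.mk' (center K)) ⟨z, hz.2⟩) (by rw [hSb]; exact mem_map_of_mem _ (hmemP z hz)) (by
      rw [mem_centralizer_iff]
      rintro w hw
      rw [SetLike.mem_coe, hSb] at hw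
      obtain ⟨w, hw', rfl⟩ := hw
      rw [← map_mul, ← map_mul]
      congr 1
      exact Subtype.ext (hzc w ⟨hw', w.2⟩).symm) ((QuotientGroup.mk' (center K)) ⟨h, hh⟩) (by
      rw [← map_inv, ← map_mul, ← map_mul]
      exact mem_map_of_mem _ hk)
  rw [← map_inv, ← map_mul, ← map_mul] at hrow
  have h4 := (mem_centralizer_iff.1 hrow) ((QuotientGroup.mk' (center K)) ⟨q, hq.2⟩) (by
    rw [SetLike.mem_coe, hSb]
    exact mem_map_of_mem _ (hmemP q hq))
  rw [← map_mul, ← map_mul] at h4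
  have h5 : ((⟨q, hq.2⟩ : K) * (⟨h, hh⟩ * ⟨z, hz.2⟩ * (⟨h, hh⟩)⁻¹))⁻¹ *
      ((⟨h, hh⟩ * ⟨z, hz.2⟩ * (⟨h, hh⟩)⁻¹) * ⟨q, hq.2⟩) ∈ center K := QuotientGroup.eq.mp h4
  have h6 : ((⟨h, hh⟩ : K) * ⟨z, hz.2⟩ * (⟨h, hh⟩)⁻¹) * ⟨q, hq.2⟩ * ((⟨h, hh⟩ : K) * ⟨z, hz.2⟩ * (⟨h, hh⟩)⁻¹)⁻¹ *
      (⟨q, hq.2⟩)⁻¹ ∈ center K := by
    have h7 := (inferInstance : (center K).Normal).conj_mem _ h5
      ((⟨q, hq.2⟩ : K) * (⟨h, hh⟩ * ⟨z, hz.2⟩ * (⟨h, hh⟩)⁻¹))
    convert h7 using 1
    group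
  refine ⟨?_, hcen _ h6⟩
  exact ((⟨h, hh⟩ : K) * ⟨z, hz.2⟩ * (⟨h, hh⟩)⁻¹ * ⟨q, hq.2⟩ * ((⟨h, hh⟩ : K) * ⟨z, hz.2⟩ * (⟨h, hh⟩)⁻¹)⁻¹ *
      (⟨q, hq.2⟩)⁻¹ :).2

section core

variable {A : Subgroup G} {S : Sylow p G}

omit [Finite G] hpf in
theorem stronglyClosed_inf_normal (hA : IsStronglyClosed A (S : Subgroup G)) {N : Subgroup G} (hN : N.Normal) :
    IsStronglyClosed (A ⊓ N) (S : Subgroup G) :=
  ⟨inf_le_left.trans hA.1, fun x hx g hg => ⟨hA.2 x hx.1 g hg, hN.conj_mem x hx.2 g⟩⟩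

omit [Finite G] hpf in
theorem inf_pCore_eq_bot (hA : IsStronglyClosed A (S : Subgroup G))
    (hmin : ∀ B : Subgroup G, B ≤ A → B ≠ ⊥ → IsStronglyClosed B (S : Subgroup G) → B = A)
    (hns : ∀ M : Subgroup G, M.Normal → A ≤ M → ¬ (S : Subgroup G) ⊓ M ≤ A) : A ⊓ pCore p G = ⊥ := by
  by_contra h
  have h1 := hmin _ inf_le_left h (stronglyClosed_inf_normal hA inferInstance)
  have h2 : (pCore p G ⊓ A).Normal :=
    H280.StrongZJ.inf_normal_of_stronglyClosed hA inferInstance (Lib.Cores.pCore_le_sylow S)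
  rw [inf_comm, h1] at h2
  exact hns A h2 le_rfl inf_le_right

omit hpf in
theorem commute_pCore (hA : IsStronglyClosed A (S : Subgroup G)) (hbot : A ⊓ pCore p G = ⊥) {a o : G} (ha : a ∈ A)
    (ho : o ∈ pCore p G) : a * o = o * a := by
  have hoS : o ∈ (S : Subgroup G) := Lib.Cores.pCore_le_sylow S ho
  have h1 : a * o * a⁻¹ * o⁻¹ ∈ A := by
    have h2 := (mem_normalizer_iff.1 (H280.StrongZJ.le_normalizer_of_stronglyClosed hA hoS) _).1 (A.inv_mem ha)
    have h3 := A.mul_mem ha h2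
    have e : a * (o * a⁻¹ * o⁻¹) = a * o * a⁻¹ * o⁻¹ := by group
    rwa [e] at h3
  have h2 : a * o * a⁻¹ * o⁻¹ ∈ pCore p G :=
    (pCore p G).mul_mem ((inferInstance : (pCore p G).Normal).conj_mem o ho a) ((pCore p G).inv_mem ho)
  have h3 : a * o * a⁻¹ * o⁻¹ ∈ A ⊓ pCore p G := ⟨h1, h2⟩
  rw [hbot, mem_bot] at h3
  have h4 := mul_inv_eq_one.1 h3
  have h5 := mul_inv_eq_iff_eq_mul.1 h4
  exact h5

theorem not_le_of_component (hO : pPrimeCore p G = ⊥) (hA : IsStronglyClosed A (S : Subgroup G))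
    (hmin : ∀ B : Subgroup G, B ≤ A → B ≠ ⊥ → IsStronglyClosed B (S : Subgroup G) → B = A)
    (hns : ∀ M : Subgroup G, M.Normal → A ≤ M → ¬ (S : Subgroup G) ⊓ M ≤ A) {K : Subgroup G} (hK : IsComponent K) :
    ¬ (S : Subgroup G) ⊓ K ≤ A := by
  intro hKA
  obtain ⟨N, hN, hSN, hle⟩ := exists_normal_join S hA
  have hQK : ¬ p ∣ (S : Subgroup G).relIndex K := H222.SylowJoin.not_dvd_relIndex_of_subnormal S.2 S.not_dvd_index hK.1
  have h1 : (S : Subgroup G) ⊓ K ≠ ⊥ := fun h =>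
    SignalizersComponents.PCompCore.not_le_centralizer_of_component hO hK S hQK (by rw [h]; exact bot_le)
  have h2 : (S : Subgroup G) ⊓ K ≤ A ⊓ N := le_inf hKA (inf_le_right.trans (hle K hK.1 hKA))
  have h3 : A ⊓ N ≠ ⊥ := fun h => h1 (le_bot_iff.1 (h ▸ h2))
  have h4 := hmin _ inf_le_left h3 (stronglyClosed_inf_normal hA hN)
  exact hns N hN (inf_eq_left.1 h4) hSN

/-- **The core theorem**: a minimal strongly closed subgroup which is not a Sylow subgroup of a normal subgroup is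
abelian. -/
theorem comm_of_minimal (hI : InnerHyp.{u} p) (hR : RowHyp.{u} p) (hO : pPrimeCore p G = ⊥)
    (hA : IsStronglyClosed A (S : Subgroup G)) (hne : A ≠ ⊥)
    (hmin : ∀ B : Subgroup G, B ≤ A → B ≠ ⊥ → IsStronglyClosed B (S : Subgroup G) → B = A)
    (hns : ∀ M : Subgroup G, M.Normal → A ≤ M → ¬ (S : Subgroup G) ⊓ M ≤ A) :
    ∀ a ∈ A, ∀ b ∈ A, a * b = b * a := by
  have hbot := inf_pCore_eq_bot hA hmin hns
  have hKA := fun {K : Subgroup G} (hK : IsComponent K) => not_le_of_component hO hA hmin hns hK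
  let X : Set G := {q | q ∈ (S : Subgroup G) ∧ ∃ K : Subgroup G, IsComponent K ∧ q ∈ K}
  have hX : ∀ {y : G}, y ∈ centralizer X ↔ ∀ K : Subgroup G, IsComponent K → ∀ q ∈ (S : Subgroup G) ⊓ K, y * q = q * y := by
    intro y
    rw [mem_centralizer_iff]
    exact ⟨fun h K hK q hq => (h q ⟨hq.1, K, hK, hq.2⟩).symm, fun h q ⟨h1, K, hK, h2⟩ => (h K hK q ⟨h1, h2⟩).symm⟩
  -- `D` is strongly closed
  have hD : IsStronglyClosed (A ⊓ centralizer X) (S : Subgroup G) := by
    refine ⟨inf_le_left.trans hA.1, fun y hy g hg => ?_⟩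
    obtain ⟨hyA, hyX⟩ := hy
    have hy'A : g * y * g⁻¹ ∈ A := hA.2 y hyA g hg
    refine ⟨hy'A, hX.2 fun K hK q hq => ?_⟩
    -- the component `K' = g⁻¹ K g`
    have hK' := SignalizersComponents.Components.isComponent_conj g⁻¹ hK
    obtain ⟨K', hK'e⟩ : ∃ K' : Subgroup G, K' = K.map (MulAut.conj g⁻¹).toMonoidHom := ⟨_, rfl⟩
    rw [← hK'e] at hK'
    have hmem : ∀ x : G, x ∈ K' ↔ g * x * g⁻¹ ∈ K := by
      intro x
      rw [hK'e]
      constructor
      · rintro ⟨w, hw, rfl⟩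
        have e : g * ((MulAut.conj g⁻¹).toMonoidHom w) * g⁻¹ = w := by
          show g * (g⁻¹ * w * g⁻¹⁻¹) * g⁻¹ = w
          group
        rw [e]; exact hw
      · intro hx
        exact ⟨_, hx, by show g⁻¹ * (g * x * g⁻¹) * g⁻¹⁻¹ = x; group⟩
    obtain ⟨k, c, hk, hcS, hcK, hykc, hkq⟩ := exists_split hI hO hK' S (hA.1 hyA) (hX.1 hyX K' hK')
    obtain ⟨k', hk'⟩ : ∃ k', k' = g * k * g⁻¹ := ⟨_, rfl⟩
    obtain ⟨c', hc'⟩ : ∃ c', c' = g * c * g⁻¹ := ⟨_, rfl⟩
    obtain ⟨y', hy'⟩ : ∃ y', y' = g * y * g⁻¹ := ⟨_, rfl⟩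
    rw [← hy'] at hg hy'A ⊢
    have hyk : y' = k' * c' := by rw [hy', hk', hc', hykc]; group
    have hk'K : k' ∈ K := by rw [hk']; exact (hmem k).1 hk.2
    have hc'K : c' ∈ centralizer (K : Set G) := by
      rw [mem_centralizer_iff]
      intro x hx
      have h1 : g⁻¹ * x * g ∈ K' := by
        rw [hmem]
        have e : g * (g⁻¹ * x * g) * g⁻¹ = x := by group
        rwa [e]
      have h2 := (mem_centralizer_iff.1 hcK) _ h1
      rw [hc']
      calc x * (g * c * g⁻¹) = g * (g⁻¹ * x * g * c) * g⁻¹ := by group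
        _ = g * (c * (g⁻¹ * x * g)) * g⁻¹ := by rw [h2]
        _ = g * c * g⁻¹ * x := by group
    -- `k'` lies in `S`
    have hconj : ∀ x ∈ K, y' * x * y'⁻¹ = k' * x * k'⁻¹ := by
      intro x hx
      rw [hyk]
      have h2 := (mem_centralizer_iff.1 hc'K) x hx
      calc k' * c' * x * (k' * c')⁻¹ = k' * (c' * x) * (k' * c')⁻¹ := by group
        _ = k' * (x * c') * (k' * c')⁻¹ := by rw [h2]
        _ = _ := by group
    have hk'c' : k' * c' = c' * k' := (mem_centralizer_iff.1 hc'K) k' hk'K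
    have hconj' : ∀ x ∈ K, y'⁻¹ * x * y' = k'⁻¹ * x * k' := by
      intro x hx
      rw [hyk, hk'c']
      have h2 := (mem_centralizer_iff.1 hc'K) x hx
      calc (c' * k')⁻¹ * x * (c' * k') = (c' * k')⁻¹ * (x * c') * k' := by group
        _ = (c' * k')⁻¹ * (c' * x) * k' := by rw [h2]
        _ = _ := by group
    have hQK : ¬ p ∣ (S : Subgroup G).relIndex K :=
      H222.SylowJoin.not_dvd_relIndex_of_subnormal S.2 S.not_dvd_index hK.1
    have hkp : H749.PEl p k' := by rw [hk']; exact (H749.PEl.of_isPGroup S.2 hk.1).conj g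
    have hk'S : k' ∈ (S : Subgroup G) := by
      refine mem_of_normalize_sylow S.2 hQK hk'K hkp (fun x hx => ?_) fun x hx => ?_
      · rw [← hconj x hx.2]
        refine ⟨S.mul_mem (S.mul_mem hg hx.1) (S.inv_mem hg), ?_⟩
        rw [hconj x hx.2]
        exact K.mul_mem (K.mul_mem hk'K hx.2) (K.inv_mem hk'K)
      · rw [← hconj' x hx.2]
        refine ⟨S.mul_mem (S.mul_mem (S.inv_mem hg) hx.1) hg, ?_⟩
        rw [hconj' x hx.2]
        exact K.mul_mem (K.mul_mem (K.inv_mem hk'K) hx.2) hk'K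
    have hproj : k' ∈ proj (S : Subgroup G) A K := ⟨⟨hk'S, hk'K⟩, c', hc'K, by rw [← hyk]; exact hy'A⟩
    -- Sylow's theorem in `K`
    obtain ⟨h, hh, hhS⟩ : ∃ h ∈ K, ∀ x ∈ K, x ∈ (S : Subgroup G).map (MulAut.conj g).toMonoidHom ↔
        h * x * h⁻¹ ∈ (S : Subgroup G) := by
      have hQp : IsPGroup p ↥((S : Subgroup G).subgroupOf K) := S.2.comap_of_injective K.subtype K.subtype_injective
      let P : Sylow p K := hQp.toSylow hQK
      have hP : (P : Subgroup K) = (S : Subgroup G).subgroupOf K := rfl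
      have hQK2 : ¬ p ∣ ((g • S : Sylow p G) : Subgroup G).relIndex K :=
        H222.SylowJoin.not_dvd_relIndex_of_subnormal (g • S).2 (g • S).not_dvd_index hK.1
      have hQp2 : IsPGroup p ↥(((g • S : Sylow p G) : Subgroup G).subgroupOf K) :=
        (g • S).2.comap_of_injective K.subtype K.subtype_injective
      let P2 : Sylow p K := hQp2.toSylow hQK2
      have hP2 : (P2 : Subgroup K) = ((g • S : Sylow p G) : Subgroup G).subgroupOf K := rfl
      obtain ⟨h, hh⟩ := MulAction.exists_smul_eq K P2 P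
      refine ⟨h, h.2, fun x hx => ?_⟩
      have h1 : (⟨x, hx⟩ : K) ∈ (P2 : Subgroup K) ↔ h * ⟨x, hx⟩ * h⁻¹ ∈ (P : Subgroup K) := by
        rw [← hh, Sylow.coe_subgroup_smul]
        constructor
        · intro h2
          exact ⟨_, h2, rfl⟩
        · rintro ⟨w, hw, e⟩
          have e' : h * w * h⁻¹ = h * ⟨x, hx⟩ * h⁻¹ := e
          have e2 : w = ⟨x, hx⟩ := by simpa using e'
          rwa [← e2]
      exact h1
    have hk'm : k' ∈ (S : Subgroup G).map (MulAut.conj g).toMonoidHom := ⟨k, hk.1, by rw [hk']; rfl⟩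
    have hzS : h * k' * h⁻¹ ∈ (S : Subgroup G) ⊓ K :=
      ⟨(hhS k' hk'K).1 hk'm, K.mul_mem (K.mul_mem hh hk'K) (K.inv_mem hh)⟩
    have hzc : ∀ w ∈ (S : Subgroup G) ⊓ K, h * k' * h⁻¹ * w = w * (h * k' * h⁻¹) := by
      intro w hw
      have h1 : h⁻¹ * w * h ∈ K := K.mul_mem (K.mul_mem (K.inv_mem hh) hw.2) hh
      have h2 : h⁻¹ * w * h ∈ (S : Subgroup G).map (MulAut.conj g).toMonoidHom := by
        rw [hhS _ h1]
        have e : h * (h⁻¹ * w * h) * h⁻¹ = w := by group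
        rw [e]; exact hw.1
      obtain ⟨v, hv, e⟩ := h2
      have e' : g * v * g⁻¹ = h⁻¹ * w * h := e
      have hvK : v ∈ K' := by rw [hmem, e']; exact h1
      have h3 := hkq v ⟨hv, hvK⟩
      have h4 : k' * (h⁻¹ * w * h) = (h⁻¹ * w * h) * k' := by
        rw [← e', hk']
        calc g * k * g⁻¹ * (g * v * g⁻¹) = g * (k * v) * g⁻¹ := by group
          _ = g * (v * k) * g⁻¹ := by rw [h3]
          _ = _ := by group
      calc h * k' * h⁻¹ * w = h * (k' * (h⁻¹ * w * h)) * h⁻¹ := by group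
        _ = h * ((h⁻¹ * w * h) * k') * h⁻¹ := by rw [h4]
        _ = _ := by group
    have hek : h⁻¹ * (h * k' * h⁻¹) * h⁻¹⁻¹ = k' := by group
    have hcen := proj_center hR hO hK S hA (hKA hK) (K.inv_mem hh) hzS hzc (by rw [hek]; exact hproj) hq
    rw [hek] at hcen
    -- the commutator of `y'` and `q`
    have h1 : y' * q * y'⁻¹ * q⁻¹ = k' * q * k'⁻¹ * q⁻¹ := by rw [hconj q hq.2]
    have h2 : y' * q * y'⁻¹ * q⁻¹ ∈ A := by
      have h3 := (mem_normalizer_iff.1 (H280.StrongZJ.le_normalizer_of_stronglyClosed hA hq.1) _).1 (A.inv_mem hy'A)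
      have h4 := A.mul_mem hy'A h3
      have e : y' * (q * y'⁻¹ * q⁻¹) = y' * q * y'⁻¹ * q⁻¹ := by group
      rwa [e] at h4
    have h3 : y' * q * y'⁻¹ * q⁻¹ ∈ A ⊓ pCore p G :=
      ⟨h2, by rw [h1]; exact SignalizersComponents.BalanceAux.center_component_le_pCore p hO hK hcen⟩
    rw [hbot, mem_bot] at h3
    exact mul_inv_eq_iff_eq_mul.1 (mul_inv_eq_one.1 h3)
  -- `D = A`
  have hDne : A ⊓ centralizer X ≠ ⊥ := by
    obtain ⟨d, hd, hd1, hdc⟩ := H280.StrongFusion.exists_mem_center S hA hne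
    intro h
    have h1 : d ∈ A ⊓ centralizer X := ⟨hd, hX.2 fun K _ q hq => (hdc q hq.1).symm⟩
    rw [h, mem_bot] at h1
    exact hd1 h1
  have hDA := hmin _ inf_le_left hDne hD
  have hAX : A ≤ centralizer X := inf_eq_left.1 hDA
  intro a ha b hb
  -- the commutator centralizes `F*(G)`
  have hcommK : ∀ K : Subgroup G, IsComponent K → a * b * a⁻¹ * b⁻¹ ∈ centralizer (K : Set G) := by
    intro K hK
    obtain ⟨k, c, hk, hcS, hcK, hykc, hkq⟩ := exists_split hI hO hK S (hA.1 ha) (hX.1 (hAX ha) K hK)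
    obtain ⟨l, d, hl, hdS, hdK, hyld, hlq⟩ := exists_split hI hO hK S (hA.1 hb) (hX.1 (hAX hb) K hK)
    have hkl : k * l = l * k := hkq l hl
    have hcl : l * c = c * l := (mem_centralizer_iff.1 hcK) l hl.2
    have hck : k * c = c * k := (mem_centralizer_iff.1 hcK) k hk.2
    have hdk : k * d = d * k := (mem_centralizer_iff.1 hdK) k hk.2
    have hdl : l * d = d * l := (mem_centralizer_iff.1 hdK) l hl.2
    have e : a * b * a⁻¹ * b⁻¹ = c * d * c⁻¹ * d⁻¹ := by
      have e1 : a * b = (k * l) * (c * d) := by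
        rw [hykc, hyld]
        calc k * c * (l * d) = k * (c * l) * d := by group
          _ = k * (l * c) * d := by rw [hcl]
          _ = _ := by group
      have e2 : b * a = (k * l) * (d * c) := by
        rw [hykc, hyld]
        calc l * d * (k * c) = l * (d * k) * c := by group
          _ = l * (k * d) * c := by rw [hdk]
          _ = (l * k) * (d * c) := by group
          _ = _ := by rw [hkl]
      have e3 : a * b * a⁻¹ * b⁻¹ = (a * b) * (b * a)⁻¹ := by group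
      have hkl_c : (k * l) * (c * d * (d * c)⁻¹) = (c * d * (d * c)⁻¹) * (k * l) :=
        (mem_centralizer_iff.1 (mul_mem (mul_mem hcK hdK) (inv_mem (mul_mem hdK hcK)) :
          c * d * (d * c)⁻¹ ∈ centralizer (K : Set G))) _ (K.mul_mem hk.2 hl.2)
      rw [e3, e1, e2]
      calc k * l * (c * d) * (k * l * (d * c))⁻¹ = (k * l) * (c * d * (d * c)⁻¹) * (k * l)⁻¹ := by group
        _ = (c * d * (d * c)⁻¹) * (k * l) * (k * l)⁻¹ := by rw [hkl_c]
        _ = _ := by group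
    rw [e]
    exact mul_mem (mul_mem (mul_mem hcK hdK) (inv_mem hcK)) (inv_mem hdK)
  have hcommA : a * b * a⁻¹ * b⁻¹ ∈ A := A.mul_mem (A.mul_mem (A.mul_mem ha hb) (A.inv_mem ha)) (A.inv_mem hb)
  have hlayer : a * b * a⁻¹ * b⁻¹ ∈ centralizer (generalizedFittingSubgroup G : Set G) := by
    have h1 : generalizedFittingSubgroup G ≤ centralizer ({a * b * a⁻¹ * b⁻¹} : Set G) := by
      refine sup_le (sSup_le fun K hK => fun x hx => ?_) fun x hx => ?_
      · rw [mem_centralizer_singleton_iff]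
        exact (mem_centralizer_iff.1 (hcommK K hK)) x hx
      · rw [SignalizersComponents.BalanceAux.fitting_eq_pCore p hO] at hx
        rw [mem_centralizer_singleton_iff]
        exact (commute_pCore hA hbot hcommA hx).symm
    rw [mem_centralizer_iff]
    intro x hx
    exact mem_centralizer_singleton_iff.1 (h1 hx)
  have hcF : a * b * a⁻¹ * b⁻¹ ∈ pCore p G := by
    let N := centralizer (generalizedFittingSubgroup G : Set G)
    have hF := Lib.GenFitting.genFitting_normal (G := G)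
    have hN : N.Normal := inferInstance
    have hle : N ≤ generalizedFittingSubgroup G := Lib.GenFitting.centralizer_genFitting_le
    have hcomm : ∀ x ∈ N, ∀ y ∈ N, x * y = y * x := fun x hx y hy =>
      (mem_centralizer_iff.1 hy) x (hle hx)
    have hnil : Group.IsNilpotent N := ⟨1, by
      rw [eq_top_iff]
      intro x _
      rw [Subgroup.upperCentralSeries_one, Subgroup.mem_center_iff]
      intro g
      exact Subtype.ext (hcomm g g.2 x x.2)⟩
    obtain ⟨n, hn⟩ := H749.PEl.of_isPGroup S.2 (hA.1 hcommA)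
    exact Lib.GenFitting.mem_pCore_of_mem_nilpotent_normal hN hnil hlayer hn
  have hfin : a * b * a⁻¹ * b⁻¹ ∈ A ⊓ pCore p G := ⟨hcommA, hcF⟩
  rw [hbot, mem_bot] at hfin
  exact mul_inv_eq_iff_eq_mul.1 (mul_inv_eq_one.1 hfin)

end core

/-! ### Reduction to `O_{p'}(G) = 1` and the final statement -/

omit hpf in
theorem eq_one_of_mem_pPrimeCore {x : G} (hx : x ∈ pPrimeCore p G) (hxp : H749.PEl p x) : x = 1 := by
  obtain ⟨n, hn⟩ := hxp
  have h1 : orderOf x ∣ p ^ n := orderOf_dvd_of_pow_eq_one hn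
  have h2 : Nat.Coprime (Nat.card (pPrimeCore p G)) p := Lib.Cores.pPrimeCore_coprime p
  have h3 : orderOf x ∣ Nat.card (pPrimeCore p G) := by
    have := orderOf_dvd_natCard (⟨x, hx⟩ : pPrimeCore p G)
    rwa [← Subgroup.orderOf_coe] at this
  have h4 : orderOf x = 1 := Nat.eq_one_of_dvd_coprimes (Nat.Coprime.pow_right n h2) h3 h1
  exact orderOf_eq_one_iff.1 h4

/-- **Minimal strongly closed subgroups are elementary abelian.** -/
theorem elementary_of_minimal (hI : InnerHyp.{u} p) (hR : RowHyp.{u} p) (A : Subgroup G) (hne : A ≠ ⊥)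
    (hsc : ∃ S : Sylow p G, IsStronglyClosed A (S : Subgroup G))
    (hmin : ∀ B : Subgroup G, B ≤ A → B ≠ ⊥ → (∃ S : Sylow p G, IsStronglyClosed B (S : Subgroup G)) → B = A)
    (hns : p ∣ A.relIndex (Subgroup.normalClosure (A : Set G))) : IsElementaryAbelian p A := by
  obtain ⟨S, hA⟩ := hsc
  have hAp : ∀ x ∈ A, H749.PEl p x := fun x hx => H749.PEl.of_isPGroup S.2 (hA.1 hx)
  let N := pPrimeCore p G
  have hN1 : ∀ x ∈ N, H749.PEl p x → x = 1 := fun x hx hxp => eq_one_of_mem_pPrimeCore hx hxp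
  let f := QuotientGroup.mk' N
  have hf : Function.Surjective f := QuotientGroup.mk'_surjective N
  have hker : ∀ x : G, f x = 1 ↔ x ∈ N := fun x => QuotientGroup.eq_one_iff x
  let Sb : Sylow p (G ⧸ N) := S.mapSurjective hf
  have hSb : (Sb : Subgroup (G ⧸ N)) = (S : Subgroup G).map f := rfl
  have hAb : IsStronglyClosed (A.map f) (Sb : Subgroup (G ⧸ N)) := by
    rw [hSb]; exact H280.StrongQuot.stronglyClosed_map_quotient S hA N
  have hneb : A.map f ≠ ⊥ := by
    intro h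
    refine hne ((Subgroup.eq_bot_iff_forall _).2 fun x hx => hN1 x ((hker x).1 ?_) (hAp x hx))
    have h1 := mem_map_of_mem f hx
    rwa [h, mem_bot] at h1
  have hcomm : ∀ a ∈ A.map f, ∀ b ∈ A.map f, a * b = b * a := by
    refine comm_of_minimal hI hR (Lib.Cores.pPrimeCore_quotient_pPrimeCore p) hAb hneb ?_ ?_
    · intro B hBA hB hBS
      refine le_antisymm hBA ?_
      have h1 : A ⊓ B.comap f = A := by
        refine hmin _ inf_le_left ?_ ⟨S, inf_le_left.trans hA.1, fun x hx g hg => ?_⟩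
        · intro h
          obtain ⟨b, hb⟩ := Subgroup.ne_bot_iff_exists_ne_one.1 hB
          obtain ⟨a, ha, e⟩ := hBA b.2
          have h2 : a ∈ A ⊓ B.comap f := ⟨ha, by show f a ∈ B; rw [e]; exact b.2⟩
          rw [h, mem_bot] at h2
          rw [h2, map_one] at e
          exact hb (Subtype.ext e.symm)
        · refine ⟨hA.2 x hx.1 g hg, ?_⟩
          have h2 : f (g * x * g⁻¹) ∈ (Sb : Subgroup (G ⧸ N)) := by rw [hSb]; exact mem_map_of_mem f hg
          show f (g * x * g⁻¹) ∈ B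
          rw [map_mul, map_mul, map_inv] at h2 ⊢
          exact hBS.2 (f x) hx.2 (f g) h2
      rw [map_le_iff_le_comap]
      exact inf_eq_left.1 h1
    · intro M hM hAM hSM
      have hM' : (M.comap f).Normal := inferInstance
      have h1 : normalClosure (A : Set G) ≤ M.comap f := normalClosure_le_normal (map_le_iff_le_comap.1 hAM)
      have h2 : (S : Subgroup G) ⊓ M.comap f ≤ A := by
        intro x hx
        obtain ⟨a, ha, e⟩ := hSM ⟨(by rw [hSb]; exact mem_map_of_mem f hx.1 : f x ∈ (Sb : Subgroup (G ⧸ N))), hx.2⟩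
        have h3 : a⁻¹ * x ∈ N := by rw [← hker, map_mul, map_inv, e, inv_mul_cancel]
        have h4 : a⁻¹ * x = 1 := hN1 _ h3 (H749.PEl.of_isPGroup S.2 (S.mul_mem (S.inv_mem (hA.1 ha)) hx.1))
        rw [← inv_mul_eq_one.1 h4]
        exact ha
      have h3 : A ⊓ normalClosure (A : Set G) = (S : Subgroup G) ⊓ normalClosure (A : Set G) :=
        le_antisymm (inf_le_inf_right _ hA.1) (le_inf ((inf_le_inf_left _ h1).trans h2) inf_le_right)
      have h4 : A.relIndex (normalClosure (A : Set G)) = (S : Subgroup G).relIndex (normalClosure (A : Set G)) := by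
        rw [← inf_relIndex_right A, h3, inf_relIndex_right]
      rw [h4] at hns
      exact H222.SylowJoin.not_dvd_relIndex_of_subnormal S.2 S.not_dvd_index
        (Normal.isSubnormal normalClosure_normal) hns
  have hcA : ∀ a ∈ A, ∀ b ∈ A, a * b = b * a := by
    intro a ha b hb
    have h1 := hcomm _ (mem_map_of_mem f ha) _ (mem_map_of_mem f hb)
    have h2 : a * b * (b * a)⁻¹ ∈ N := by
      rw [← hker, map_mul, map_inv, map_mul, map_mul, h1, mul_inv_cancel]
    have h3 : a * b * (b * a)⁻¹ ∈ A := A.mul_mem (A.mul_mem ha hb) (A.inv_mem (A.mul_mem hb ha))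
    exact mul_inv_eq_one.1 (hN1 _ h2 (hAp _ h3))
  -- `Ω₁(A)`
  let B : Subgroup G :=
    { carrier := {x | x ∈ A ∧ x ^ p = 1}
      one_mem' := ⟨A.one_mem, one_pow p⟩
      mul_mem' := fun {x y} hx hy => ⟨A.mul_mem hx.1 hy.1, by
        rw [(show Commute x y from hcA x hx.1 y hy.1).mul_pow, hx.2, hy.2, one_mul]⟩
      inv_mem' := fun {x} hx => ⟨A.inv_mem hx.1, by rw [inv_pow, hx.2, inv_one]⟩ }
  have hB : B = A := by
    refine hmin B (fun x hx => hx.1) ?_ ⟨S, fun x hx => hA.1 hx.1, fun x hx g hg => ?_⟩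
    · intro h
      obtain ⟨a, ha⟩ := Subgroup.ne_bot_iff_exists_ne_one.1 hne
      have hap : IsPGroup p A := S.2.to_le hA.1
      have : Nontrivial A := ⟨⟨a, 1, ha⟩⟩
      obtain ⟨n, hn0, hn⟩ := (hap.nontrivial_iff_card).mp inferInstance
      have hdvd : p ∣ Nat.card A := by rw [hn]; exact dvd_pow_self p hn0.ne'
      obtain ⟨z, hz⟩ := exists_prime_orderOf_dvd_card' p hdvd
      have h1 : (z : G) ∈ B := ⟨z.2, by
        have := pow_orderOf_eq_one z
        rw [hz] at this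
        exact congrArg Subtype.val this⟩
      rw [h, mem_bot] at h1
      have h2 : z = 1 := Subtype.ext h1
      rw [h2, orderOf_one] at hz
      exact hpf.out.one_lt.ne hz
    · exact ⟨hA.2 x hx.1 g hg, by rw [conj_pow, hx.2, mul_one, mul_inv_cancel]⟩
  refine ⟨⟨⟨fun a b => Subtype.ext (hcA a a.2 b b.2)⟩⟩, fun a ha => ?_⟩
  rw [← hB] at ha
  exact ha.2

omit [Finite G] hpf in
/-- if `S` is normal in the fusion system then the centre of `S` is weakly closed elementwise -/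
theorem centralizer_of_isNormal {S : Subgroup G} (h : (groupFusionSystem S).IsNormal S) {z g : G} (hz : z ∈ S)
    (hzc : z ∈ centralizer (S : Set G)) (hg : g * z * g⁻¹ ∈ S) : g * z * g⁻¹ ∈ centralizer (S : Set G) := by
  have hφ : conjHom (zpowers z) g ∈ (groupFusionSystem S).Hom (zpowers z) := by
    refine ⟨zpowers_le.2 hz, ?_, g, fun x => rfl⟩
    rintro ⟨x, hx⟩
    obtain ⟨n, rfl⟩ := mem_zpowers_iff.1 hx
    show g * z ^ n * g⁻¹ ∈ S
    rw [← conj_zpow]
    exact S.zpow_mem hg n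
  obtain ⟨ψ, ⟨-, -, g', hg'⟩, hψ, hmap⟩ := h.2 _ _ hφ
  have h1 : g' * z * g'⁻¹ = g * z * g⁻¹ := by
    have h2 := hψ ⟨z, mem_zpowers z⟩
    rw [hg'] at h2
    exact h2
  rw [← h1, mem_centralizer_iff]
  intro s hs
  have hs' : s ∈ (S.subgroupOf (zpowers z ⊔ S)).map ψ := by rw [hmap]; exact hs
  obtain ⟨t, ht, rfl⟩ := hs'
  rw [hg']
  have h3 : (t : G) * z = z * t := (mem_centralizer_iff.1 hzc) t ht
  calc g' * (t : G) * g'⁻¹ * (g' * z * g'⁻¹) = g' * (t * z) * g'⁻¹ := by group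
    _ = g' * (z * t) * g'⁻¹ := by rw [h3]
    _ = _ := by group

omit hpf in
/-- `RowHyp` from the statement of S5116 -/
theorem rowHyp_of {p : ℕ} (h : ∀ (L : Type u) [Group L] [Finite L] [IsSimpleGroup L], ¬ IsMulCommutative L →
    ∀ (S : Sylow p L) (T : Subgroup L), T ≠ ⊥ → T < (S : Subgroup L) → Cfsg.IsStronglyClosed T (S : Subgroup L) →
      (Cfsg.groupFusionSystem (S : Subgroup L)).IsNormal S ∨
        T = (S : Subgroup L) ⊓ Subgroup.centralizer ((S : Subgroup L) : Set L)) : RowHyp.{u} p := by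
  intro L _ _ _ hL S T hTS hT z hz hzc g hg
  by_cases hT0 : T = ⊥
  · rw [hT0, mem_bot] at hg
    rw [hg]
    exact one_mem _
  rcases h L hL S T hT0 hTS hT with h1 | h1
  · exact centralizer_of_isNormal h1 hz hzc (hT.1 hg)
  · rw [h1] at hg
    exact hg.2

end Cfsg.Agent.H792.MinClosed
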